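import Groth.Agent.QuotLib.BaseChange
import Mathlib.RingTheory.Flat.Basic

/-!
# Reynolds operator: quotients by finite groups of invertible order
-/

set_option autoImplicit false
set_option backward.isDefEq.respectTransparency false
set_option backward.isDefEq.respectTransparency.types false

noncomputable section

universe u

open CategoryTheory CategoryTheory.Limits AlgebraicGeometry TopologicalSpace
open scoped TensorProduct

namespace QuotFamLib

variable {X Y X' Y' : Scheme.{u}} {G : Type u} [Group G] [Finite G] {ρ : G →* Aut X} {p : X ⟶ Y}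
  {qY : Y' ⟶ Y} {pX : X' ⟶ X} {p' : X' ⟶ Y'} {ρ' : G →* Aut X'}

/-- An invertible group order splits off the invariants. -/
theorem exists_retraction [IsAffine X] [IsAffine Y] (hp : SGA1.IsQuot ρ p)
    (hG : IsUnit ((Nat.card G : ℕ) : Γ(Y, ⊤))) :
    letI := p.appTop.hom.toAlgebra
    ∃ r : Γ(X, ⊤) →ₗ[Γ(Y, ⊤)] Γ(Y, ⊤), (∀ b, r (p.appTop.hom b) = b) ∧
      ∀ s, p.appTop.hom (r s) * ((Nat.card G : ℕ) : Γ(X, ⊤)) =
        letI := Fintype.ofFinite G
        ∑ g : G, (ρ g).hom.appTop.hom s := by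
  letI := p.appTop.hom.toAlgebra
  letI := Fintype.ofFinite G
  obtain ⟨v, hv⟩ := hG
  have hmem : ∀ s, ∃ b, p.appTop.hom b = ∑ g : G, (ρ g).hom.appTop.hom s := fun s => by
    refine QuotLib.appTop_mem_range hp _ fun h => ?_
    rw [map_sum]
    have e : ∀ g, (ρ h).hom.appTop.hom ((ρ g).hom.appTop.hom s) = (ρ (g * h)).hom.appTop.hom s := fun g => by
      rw [← CommRingCat.comp_apply, ← Scheme.Hom.comp_appTop, map_mul]
      rfl
    simp only [e]
    exact Fintype.sum_equiv (Equiv.mulRight h) _ _ fun g => rfl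
  choose t ht using hmem
  have hinj : Function.Injective p.appTop.hom := hp.injective ⊤
  let r : Γ(X, ⊤) →ₗ[Γ(Y, ⊤)] Γ(Y, ⊤) :=
    { toFun := fun s => (↑v⁻¹ : Γ(Y, ⊤)) * t s
      map_add' := fun a b => by
        rw [← mul_add]; congr 1
        apply hinj
        simp [ht, Finset.sum_add_distrib]
      map_smul' := fun c a => by
        rw [RingHom.id_apply, smul_eq_mul, mul_left_comm]; congr 1
        apply hinj
        rw [map_mul, ht, ht, Finset.mul_sum]
        refine Finset.sum_congr rfl fun g _ => ?_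
        rw [Algebra.smul_def, map_mul]
        congr 1
        exact QuotLib.appTop_inv hp.inv g c }
  refine ⟨r, fun b => ?_, fun s => ?_⟩
  · show (↑v⁻¹ : Γ(Y, ⊤)) * t _ = b
    have : t (p.appTop.hom b) = (v : Γ(Y, ⊤)) * b := by
      apply hinj
      rw [ht, map_mul, hv, map_natCast]
      simp only [QuotLib.appTop_inv hp.inv]
      rw [Finset.sum_const, Finset.card_univ, nsmul_eq_mul, Fintype.card_eq_nat_card]
    rw [this, ← mul_assoc, Units.inv_mul, one_mul]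
  · show p.appTop.hom ((↑v⁻¹ : Γ(Y, ⊤)) * t s) * _ = _
    have e : p.appTop.hom (v : Γ(Y, ⊤)) = ((Nat.card G : ℕ) : Γ(X, ⊤)) := by rw [hv, map_natCast]
    rw [map_mul, ← e, mul_right_comm, ← map_mul, Units.inv_mul, map_one, one_mul, ht]

theorem isQuot_baseChange_affine [IsAffine X] [IsAffine Y] [IsAffine Y'] (hp : SGA1.IsQuot ρ p)
    (hG : IsUnit ((Nat.card G : ℕ) : Γ(Y, ⊤)))
    (hX : IsPullback pX p' p qY) (hρ₁ : ∀ g : G, (ρ' g).hom ≫ pX = pX ≫ (ρ g).hom)
    (hρ₂ : ∀ g : G, (ρ' g).hom ≫ p' = p') : SGA1.IsQuot ρ' p' := by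
  classical
  haveI := hp.affine
  haveI : IsAffine X' := .of_isPullback hX.flip
  have hpo := (isPushout_appTop_of_isPullback hX).flip
  algebraize [qY.appTop.hom, p.appTop.hom, p'.appTop.hom, pX.appTop.hom, (pX.appTop.hom.comp p.appTop.hom)]
  have hw : ∀ r, p'.appTop.hom (qY.appTop.hom r) = pX.appTop.hom (p.appTop.hom r) := fun r => by
    rw [← CommRingCat.comp_apply, ← CommRingCat.comp_apply, hpo.w]
  haveI : IsScalarTower Γ(Y, ⊤) Γ(Y', ⊤) Γ(X', ⊤) := IsScalarTower.of_algebraMap_eq fun r => (hw r).symm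
  haveI hP : Algebra.IsPushout Γ(Y, ⊤) Γ(Y', ⊤) Γ(X, ⊤) Γ(X', ⊤) :=
    CommRingCat.isPushout_iff_isPushout.1 hpo
  let e := Algebra.IsPushout.equiv Γ(Y, ⊤) Γ(Y', ⊤) Γ(X, ⊤) Γ(X', ⊤)
  let act : G → Γ(X, ⊤) →ₗ[Γ(Y, ⊤)] Γ(X, ⊤) := fun g =>
    { (ρ g).hom.appTop.hom with
      map_smul' := fun r s => by
        show (ρ g).hom.appTop.hom (p.appTop.hom r * s) = p.appTop.hom r * (ρ g).hom.appTop.hom s
        rw [map_mul, QuotLib.appTop_inv hp.inv] }
  have hact : ∀ g z, (ρ' g).hom.appTop.hom (e z) = e ((act g).lTensor Γ(Y', ⊤) z) := fun g z => by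
    induction z using TensorProduct.induction_on with
    | zero => simp
    | add z w hz hw => simp [map_add, hz, hw]
    | tmul b s =>
      rw [LinearMap.lTensor_tmul]
      simp only [e, Algebra.IsPushout.equiv_tmul, map_mul]
      congr 1
      · exact QuotLib.appTop_inv hρ₂ g b
      · show (ρ' g).hom.appTop.hom (pX.appTop.hom s) = pX.appTop.hom ((ρ g).hom.appTop.hom s)
        rw [← CommRingCat.comp_apply, ← CommRingCat.comp_apply, ← Scheme.Hom.comp_appTop, ← Scheme.Hom.comp_appTop, hρ₁]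
  obtain ⟨r, hr, hsum⟩ := exists_retraction hp hG
  letI := Fintype.ofFinite G
  let i : Γ(Y, ⊤) →ₗ[Γ(Y, ⊤)] Γ(X, ⊤) := Algebra.linearMap Γ(Y, ⊤) Γ(X, ⊤)
  have hone : ∀ b : Γ(Y', ⊤), p'.appTop.hom b = e (i.lTensor Γ(Y', ⊤) (b ⊗ₜ 1)) := fun b => by
    rw [LinearMap.lTensor_tmul, Algebra.linearMap_apply, map_one, Algebra.IsPushout.equiv_tmul, map_one, mul_one]
    rfl
  have hri : r ∘ₗ i = LinearMap.id := LinearMap.ext fun b => hr b
  refine QuotLib.isQuot_of_affine hρ₂ (fun a b h => ?_) fun z hz => ?_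
  · rw [hone, hone] at h
    have := congrArg (r.lTensor Γ(Y', ⊤)) (e.injective h)
    rw [← LinearMap.comp_apply, ← LinearMap.comp_apply, ← LinearMap.lTensor_comp, hri, LinearMap.lTensor_id] at this
    simpa using congrArg (TensorProduct.rid Γ(Y, ⊤) Γ(Y', ⊤)) this
  · obtain ⟨w, rfl⟩ := e.surjective z
    have hw' : ∀ g, (act g).lTensor Γ(Y', ⊤) w = w := fun g => e.injective ((hact g w).symm.trans (hz g))
    obtain ⟨v, hv⟩ := hG
    have hR : i ∘ₗ r = (↑v⁻¹ : Γ(Y, ⊤)) • ∑ g : G, act g := LinearMap.ext fun s => by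
      rw [LinearMap.smul_apply, LinearMap.sum_apply, LinearMap.comp_apply, Algebra.smul_def]
      show p.appTop.hom (r s) = p.appTop.hom (↑v⁻¹ : Γ(Y, ⊤)) * ∑ g : G, (ρ g).hom.appTop.hom s
      rw [← hsum, mul_left_comm, show ((Nat.card G : ℕ) : Γ(X, ⊤)) = p.appTop.hom (v : Γ(Y, ⊤)) by rw [hv, map_natCast],
        ← map_mul p.appTop.hom (↑v⁻¹ : Γ(Y, ⊤)), Units.inv_mul, map_one, mul_one]
    refine ⟨TensorProduct.rid Γ(Y, ⊤) Γ(Y', ⊤) (r.lTensor Γ(Y', ⊤) w), ?_⟩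
    rw [hone, show (TensorProduct.rid Γ(Y, ⊤) Γ(Y', ⊤) (r.lTensor Γ(Y', ⊤) w)) ⊗ₜ[Γ(Y, ⊤)] (1 : Γ(Y, ⊤)) = r.lTensor Γ(Y', ⊤) w from
      (TensorProduct.rid Γ(Y, ⊤) Γ(Y', ⊤)).symm_apply_apply _]
    congr 1
    rw [← LinearMap.comp_apply, ← LinearMap.lTensor_comp, hR, LinearMap.lTensor_smul, LinearMap.smul_apply]
    have : (∑ g : G, act g).lTensor Γ(Y', ⊤) w = (v : Γ(Y, ⊤)) • w := by
      rw [← LinearMap.coe_lTensorHom, map_sum, LinearMap.sum_apply]
      simp only [LinearMap.coe_lTensorHom, hw']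
      rw [Finset.sum_const, Finset.card_univ, hv, Nat.cast_smul_eq_nsmul, Fintype.card_eq_nat_card]
    rw [this, smul_smul, Units.inv_mul, one_smul]

/-- Quotients by groups of invertible order commute with arbitrary base change. -/
theorem isQuot_baseChange (hp : SGA1.IsQuot ρ p) (hG : IsUnit ((Nat.card G : ℕ) : Γ(Y, ⊤)))
    (hX : IsPullback pX p' p qY) (hρ₁ : ∀ g : G, (ρ' g).hom ≫ pX = pX ≫ (ρ g).hom)
    (hρ₂ : ∀ g : G, (ρ' g).hom ≫ p' = p') : SGA1.IsQuot ρ' p' := by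
  choose U hU hyU _ using fun y : Y' => QuotLib.exists_affine (show qY y ∈ (⊤ : Y.Opens) from trivial)
  choose U' hU' hyU' hle using fun y : Y' => QuotLib.exists_affine (show y ∈ qY ⁻¹ᵁ U y from hyU y)
  refine QuotLib.isQuot_of_cover hρ₂ U' (fun y => ⟨y, hyU' y⟩) fun y => ?_
  haveI : IsAffine (U y).toScheme := hU y
  haveI : IsAffine (U' y).toScheme := hU' y
  haveI := QuotLib.isAffine_preimage hp (hU y)
  have hle2 : p' ⁻¹ᵁ U' y ≤ pX ⁻¹ᵁ (p ⁻¹ᵁ U y) := by
    intro x hx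
    show p (pX x) ∈ U y
    rw [← Scheme.Hom.comp_apply, hX.w, Scheme.Hom.comp_apply]
    exact hle y hx
  have hsq : IsPullback (pX.resLE (p ⁻¹ᵁ U y) (p' ⁻¹ᵁ U' y) hle2) (p' ∣_ U' y) (p ∣_ U y)
      (qY.resLE (U y) (U' y) (hle y)) := by
    refine IsPullback.of_right (h₁₂ := (p ⁻¹ᵁ U y).ι) (v₁₃ := p) (h₂₂ := (U y).ι) ?_ ?_
      (isPullback_morphismRestrict p (U y)).flip
    · rw [Scheme.Hom.resLE_comp_ι, Scheme.Hom.resLE_comp_ι]
      exact (isPullback_morphismRestrict p' (U' y)).flip.paste_horiz hX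
    · rw [← cancel_mono (U y).ι, Category.assoc, Category.assoc, morphismRestrict_ι, Scheme.Hom.resLE_comp_ι,
        Scheme.Hom.resLE_comp_ι_assoc, morphismRestrict_ι_assoc, hX.w]
  have hGU : IsUnit ((Nat.card G : ℕ) : Γ((U y).toScheme, ⊤)) := by
    simpa using hG.map (U y).ι.appTop.hom
  refine isQuot_baseChange_affine (QuotLib.isQuot_restrictAct hp (U y)) hGU hsq (fun g => ?_) fun g => ?_
  · rw [← cancel_mono (p ⁻¹ᵁ U y).ι, Category.assoc, Category.assoc, Scheme.Hom.resLE_comp_ι, QuotLib.restrictAct_ι,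
      Scheme.Hom.resLE_comp_ι_assoc, ← Category.assoc, QuotLib.restrictAct_ι, Category.assoc, hρ₁]
  · rw [← cancel_mono (U' y).ι, Category.assoc, morphismRestrict_ι, ← Category.assoc, QuotLib.restrictAct_ι,
      Category.assoc, hρ₂]

end QuotFamLib
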