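import Groth.Agent.QuotTameLib.Desc
import Groth.Agent.QuotFamLib.Reynolds
import Groth.Agent.CurveQuotLib.Main
import Groth.Agent.S12442
import Groth.Agent.FlatLib.FibreFlatScheme
import Mathlib.AlgebraicGeometry.Morphisms.SmoothFiber
import Groth.Prelude.Def_MoreMor

/-!
# Quotients of smooth curve families by finite groups of invertible order
-/

set_option autoImplicit false
set_option linter.style.haveILetI false
set_option backward.isDefEq.respectTransparency false
set_option backward.isDefEq.respectTransparency.types false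

universe u

open CategoryTheory CategoryTheory.Limits AlgebraicGeometry TopologicalSpace

noncomputable section

namespace QuotFamLib

variable {X Y S : Scheme.{u}} {G : Type u} [Group G] [Finite G] {ρ : G →* Aut X} {π : X ⟶ Y}

/-- Everything one needs to know about a fibre of the quotient. -/
theorem fibre_main (q : Y ⟶ S) [IsProper (π ≫ q)] [Smooth (π ≫ q)] [GeometricallyConnected (π ≫ q)]
    (hρ : ∀ a : G, (ρ a).hom ≫ π ≫ q = π ≫ q) (hG : IsUnit ((Nat.card G : ℕ) : Γ(S, ⊤)))
    (hquot : SGA1.IsQuot ρ π) (s : S) (hdim : topologicalKrullDim ↥((π ≫ q).fiber s) = 1)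
    (hfaith : ∀ a : G, a ≠ 1 → ∃ x : X, (π ≫ q) x = s ∧ (ρ a).hom x ≠ x) :
    Smooth (q.fiberToSpecResidueField s) ∧ GeometricallyConnected (q.fiberToSpecResidueField s) ∧
      topologicalKrullDim ↥(q.fiber s) = 1 ∧ Flat (MoreMor.fiberMap π q s) ∧
      IsPullback ((π ≫ q).fiberι s) (MoreMor.fiberMap π q s) π (q.fiberι s) ∧
      ∀ y : q.fiber s, (MoreMor.fiberMap π q s).finrank y = Nat.card G := by
  let b := S.fromSpecResidueField s
  let X' := (π ≫ q).fiber s
  let π' : X' ⟶ q.fiber s := MoreMor.fiberMap π q s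
  have hπ'1 : π' ≫ q.fiberι s = (π ≫ q).fiberι s ≫ π := pullback.lift_fst _ _ _
  have hπ'2 : π' ≫ q.fiberToSpecResidueField s = (π ≫ q).fiberToSpecResidueField s := pullback.lift_snd _ _ _
  have hsq : IsPullback ((π ≫ q).fiberι s) π' π (q.fiberι s) :=
    IsPullback.of_bot (by rw [show π' ≫ pullback.snd q b = pullback.snd _ _ from hπ'2]
                          exact .of_hasPullback _ _)
      hπ'1.symm (.of_hasPullback q b)
  let ρ' : G →* Aut (pullback (π ≫ q) b) :=
    { toFun := fun g => asIso (pullback.map (π ≫ q) b (π ≫ q) b (ρ g).hom (𝟙 _) (𝟙 _)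
        (by rw [Category.comp_id, hρ]) (by simp))
      map_one' := Iso.ext (by
        refine pullback.hom_ext ?_ ?_ <;> simp <;> rfl)
      map_mul' := fun g h => Iso.ext (by
        refine pullback.hom_ext ?_ ?_ <;> simp [map_mul, Aut.Aut_mul_def]) }
  have h1 : ∀ g : G, (ρ' g).hom ≫ (π ≫ q).fiberι s = (π ≫ q).fiberι s ≫ (ρ g).hom :=
    fun g => pullback.lift_fst _ _ _
  have hk : ∀ g : G, (ρ' g).hom ≫ (π ≫ q).fiberToSpecResidueField s = (π ≫ q).fiberToSpecResidueField s :=
    fun g => (pullback.lift_snd _ _ _).trans (Category.comp_id _)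
  have h2 : ∀ g : G, (ρ' g).hom ≫ π' = π' := fun g => by
    refine pullback.hom_ext ?_ ?_
    · show ((ρ' g).hom ≫ π') ≫ q.fiberι s = π' ≫ q.fiberι s
      rw [Category.assoc, hπ'1, reassoc_of% (h1 g), hquot.inv]
    · show ((ρ' g).hom ≫ π') ≫ q.fiberToSpecResidueField s = π' ≫ q.fiberToSpecResidueField s
      rw [Category.assoc, hπ'2, hk]
  have hq' := isQuot_baseChange hquot (by simpa using hG.map q.appTop.hom) hsq h1 h2
  have hinj : Function.Injective ρ' := by
    rw [injective_iff_map_eq_one]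
    intro a ha
    by_contra hne
    obtain ⟨x, hxs, hx⟩ := hfaith a hne
    obtain ⟨x', rfl⟩ : x ∈ Set.range ((π ≫ q).fiberι s) := by
      rw [Scheme.Hom.range_fiberι]; exact hxs
    apply hx
    rw [← Scheme.Hom.comp_apply, ← h1, ha]
    exact congrArg (fun t : X' ⟶ X => t x') (Category.id_comp _)
  haveI : IsProper ((π ≫ q).fiberToSpecResidueField s) :=
    MorphismProperty.pullback_snd (P := @IsProper) _ _ ‹_›
  haveI : Smooth ((π ≫ q).fiberToSpecResidueField s) :=
    MorphismProperty.pullback_snd (P := @Smooth) _ _ ‹_›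
  obtain ⟨-, hs, hgc, hd, -, hfl, hrk⟩ := CurveQuotLib.main (S.residueField s)
    ((π ≫ q).fiberToSpecResidueField s) hdim hinj hk (q.fiberToSpecResidueField s) hπ'2 hq'
  exact ⟨hs, hgc, hd, hfl, hsq, hrk⟩

/-- A quotient of a family of smooth curves by a finite group of invertible order acting faithfully on the fibres. -/
theorem main (f : X ⟶ S) [IsProper f] [Smooth f] [GeometricallyConnected f]
    (hdim : ∀ s : S, topologicalKrullDim ↥(f.fiber s) = 1) (hG : IsUnit ((Nat.card G : ℕ) : Γ(S, ⊤)))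
    (hρ : ∀ a : G, (ρ a).hom ≫ f = f)
    (hfaith : ∀ (s : S) (a : G), a ≠ 1 → ∃ x : X, f x = s ∧ (ρ a).hom x ≠ x)
    (q : Y ⟶ S) (hπ : π ≫ q = f) (hquot : SGA1.IsQuot ρ π) :
    IsProper q ∧ Smooth q ∧ GeometricallyConnected q ∧ (∀ s : S, topologicalKrullDim ↥(q.fiber s) = 1) ∧
      IsFinite π ∧ Flat π ∧ LocallyOfFinitePresentation π ∧ ∀ y : Y, π.finrank y = Nat.card G := by
  subst hπ
  have hfib := fun s => fibre_main q hρ hG hquot s (hdim s) (hfaith s)
  haveI := hquot.affine
  haveI hsurj : Surjective π := ⟨QuotLib.surjective hquot⟩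
  haveI : IsFinite π := QuotLib.isFinite_of_locallyOfFiniteType hquot q
  haveI : LocallyOfFinitePresentation q := QuotTame.locallyOfFinitePresentation_desc hquot q hG
  haveI : Flat q := QuotTame.flat_desc hquot q hG
  haveI : QuasiCompact q := QuotLib.quasiCompact_desc hquot q
  haveI : IsSeparated q := QuotLib.isSeparated_desc hquot q
  haveI : UniversallyClosed q := UniversallyClosed.of_comp_surjective π q
  haveI hproper : IsProper q := { }
  haveI hlfp : LocallyOfFinitePresentation π := Groth.Agent.S12442.lfp_of_comp_lft π q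
  haveI hflat : Flat π := FlatLib.flat_of_fibres_flat_lfp π q fun s => (hfib s).2.2.2.1
  refine ⟨hproper, Smooth.of_smooth_fiberToSpecResidueField q fun s => (hfib s).1,
    (GeometricallyConnected.iff_geometricallyConnected_fiber q).2 fun s => (hfib s).2.1,
    fun s => (hfib s).2.2.1, inferInstance, hflat, hlfp, fun y => ?_⟩
  obtain ⟨y', hy'⟩ : y ∈ Set.range (q.fiberι (q y)) := by
    rw [Scheme.Hom.range_fiberι]; rfl
  rw [← hy', ← Scheme.Hom.finrank_of_isPullback _ _ π _ (hfib (q y)).2.2.2.2.1 y']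
  exact (hfib (q y)).2.2.2.2.2 y'

end QuotFamLib
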